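import Mathlib.Algebra.Homology.DerivedCategory.KProjective

/-!
# Strict lifting of K-projective complexes along surjective quasi-isomorphisms
-/

set_option autoImplicit false

universe w v u

open CategoryTheory CategoryTheory.Limits HomologicalComplex

namespace Groth.Agent.ResProp.EF.K907

variable {C : Type u} [Category.{v} C] [Abelian C]

/-- a morphism from a K-projective complex with projective terms lifts strictly along a quasi-isomorphism which is
an epimorphism in every degree. -/
theorem exists_lift {L A B : CochainComplex C ℤ} [L.IsKProjective] (hL : ∀ n, Projective (L.X n)) (p : A ⟶ B)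
    [QuasiIso p] (hp : ∀ n, Epi (p.f n)) (g : L ⟶ B) : ∃ g' : L ⟶ A, g' ≫ p = g := by
  let := HasDerivedCategory.standard C
  have : IsIso (DerivedCategory.Q.map p) := inferInstance
  obtain ⟨x, hx⟩ := (CochainComplex.IsKProjective.Qh_map_bijective L
    ((HomotopyCategory.quotient _ _).obj A)).surjective
    ((DerivedCategory.quotientCompQhIso C).hom.app L ≫
      (DerivedCategory.Q.map g ≫ inv (DerivedCategory.Q.map p)) ≫
      (DerivedCategory.quotientCompQhIso C).inv.app A)
  obtain ⟨f, rfl⟩ := (HomotopyCategory.quotient _ _).map_surjective x
  have h1 : (HomotopyCategory.quotient _ _).map (f ≫ p) = (HomotopyCategory.quotient _ _).map g := by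
    apply (CochainComplex.IsKProjective.Qh_map_bijective L ((HomotopyCategory.quotient _ _).obj B)).injective
    rw [Functor.map_comp, Functor.map_comp, hx]
    have e1 := (DerivedCategory.quotientCompQhIso C).inv.naturality p
    have e2 := (DerivedCategory.quotientCompQhIso C).hom.naturality g
    simp only [Functor.comp_map] at e1 e2
    simp only [Category.assoc]
    rw [← e1]
    simp only [IsIso.inv_hom_id_assoc]
    rw [← reassoc_of% e2, Iso.hom_inv_id_app]
    exact Category.comp_id _
  let h := HomotopyCategory.homotopyOfEq _ _ h1
  have hj : ∀ i j, ∃ k : L.X i ⟶ A.X j, k ≫ p.f j = h.hom i j := fun i j => by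
    have := hp j
    have := hL i
    exact ⟨Projective.factorThru (h.hom i j) (p.f j), Projective.factorThru_comp _ _⟩
  choose k hk using hj
  refine ⟨f - Homotopy.nullHomotopicMap k, ?_⟩
  rw [Preadditive.sub_comp, Homotopy.nullHomotopicMap_comp]
  have h2 : (fun i j => k i j ≫ p.f j) = h.hom := by
    funext i j
    exact hk i j
  rw [h2, sub_eq_iff_eq_add]
  ext i
  have := h.comm i
  rw [this, add_comm]
  rfl

end Groth.Agent.ResProp.EF.K907
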