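import Mathlib.Algebra.Homology.BifunctorShift
import Mathlib.CategoryTheory.Limits.Preserves.Shapes.Products

/-!
# Total complexes of bifunctors and lax comparison maps

Given bifunctors `T`, `T'`, functors `G₁ G₂ H` and natural maps `T'(G₁ M, G₂ N) ⟶ H(T(M, N))`, one gets a natural morphism of
cochain complexes `T'(G₁ K, G₂ L) ⟶ H(T(K, L))`.
-/

set_option autoImplicit false
set_option linter.unusedSectionVars false
set_option backward.defeqAttrib.useBackward true
set_option backward.isDefEq.respectTransparency false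

universe v₁ v₂ v₃ v₁' v₂' v₃' u₁ u₂ u₃ u₁' u₂' u₃'

open CategoryTheory Category Limits HomologicalComplex

namespace Groth.Agent.ResProp.EF.K907

variable {C₁ : Type u₁} {C₂ : Type u₂} {D : Type u₃} [Category.{v₁} C₁] [Category.{v₂} C₂]
  [Category.{v₃} D] [Preadditive C₁] [Preadditive C₂] [Preadditive D]
  {C₁' : Type u₁'} {C₂' : Type u₂'} {D' : Type u₃'} [Category.{v₁'} C₁'] [Category.{v₂'} C₂']
  [Category.{v₃'} D'] [Preadditive C₁'] [Preadditive C₂'] [Preadditive D']
  (T : C₁ ⥤ C₂ ⥤ D) (T' : C₁' ⥤ C₂' ⥤ D') (G₁ : C₁ ⥤ C₁') (G₂ : C₂ ⥤ C₂') (H : D ⥤ D')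

/-- Natural maps `T'(G₁ M, G₂ N) ⟶ H(T(M, N))`. -/
structure Lax where
  /-- the maps -/
  e (M : C₁) (N : C₂) : (T'.obj (G₁.obj M)).obj (G₂.obj N) ⟶ H.obj ((T.obj M).obj N)
  nat₁ {M M' : C₁} (f : M ⟶ M') (N : C₂) :
    (T'.map (G₁.map f)).app (G₂.obj N) ≫ e M' N = e M N ≫ H.map ((T.map f).app N)
  nat₂ (M : C₁) {N N' : C₂} (g : N ⟶ N') :
    (T'.obj (G₁.obj M)).map (G₂.map g) ≫ e M N' = e M N ≫ H.map ((T.obj M).map g)

variable {T T' G₁ G₂ H} (c : Lax T T' G₁ G₂ H)

attribute [reassoc] Lax.nat₁ Lax.nat₂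

namespace Lax

variable [G₁.Additive] [G₂.Additive] [H.Additive]
  [T.Additive] [∀ (X₁ : C₁), (T.obj X₁).Additive] [T'.Additive] [∀ (X₁ : C₁'), (T'.obj X₁).Additive]
  (K : CochainComplex C₁ ℤ) (L : CochainComplex C₂ ℤ)
  [CochainComplex.HasMapBifunctor K L T]
  [CochainComplex.HasMapBifunctor ((G₁.mapHomologicalComplex (ComplexShape.up ℤ)).obj K)
    ((G₂.mapHomologicalComplex (ComplexShape.up ℤ)).obj L) T']

/-- The comparison map in degree `n`. -/
noncomputable def comp (n : ℤ) :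
    (mapBifunctor ((G₁.mapHomologicalComplex (ComplexShape.up ℤ)).obj K)
      ((G₂.mapHomologicalComplex (ComplexShape.up ℤ)).obj L) T' (ComplexShape.up ℤ)).X n ⟶
    H.obj ((mapBifunctor K L T (ComplexShape.up ℤ)).X n) :=
  mapBifunctorDesc (fun p q h => c.e (K.X p) (L.X q) ≫
    H.map (ιMapBifunctor K L T (ComplexShape.up ℤ) p q n h))

@[reassoc]
lemma ι_comp (p q n : ℤ) (h : p + q = n) :
    ιMapBifunctor ((G₁.mapHomologicalComplex (ComplexShape.up ℤ)).obj K)
      ((G₂.mapHomologicalComplex (ComplexShape.up ℤ)).obj L) T' (ComplexShape.up ℤ) p q n h ≫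
        comp c K L n =
      c.e (K.X p) (L.X q) ≫ H.map (ιMapBifunctor K L T (ComplexShape.up ℤ) p q n h) :=
  ι_mapBifunctorDesc _ _ _ _

lemma comp_comm (n m : ℤ) (hnm : n + 1 = m) :
    comp c K L n ≫ H.map ((mapBifunctor K L T (ComplexShape.up ℤ)).d n m) =
    (mapBifunctor ((G₁.mapHomologicalComplex (ComplexShape.up ℤ)).obj K)
      ((G₂.mapHomologicalComplex (ComplexShape.up ℤ)).obj L) T' (ComplexShape.up ℤ)).d n m ≫
      comp c K L m := by
  subst hnm
  apply mapBifunctor.hom_ext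
  intro p q h
  have h' : p + q = n := h
  rw [ι_comp_assoc, ← H.map_comp, mapBifunctor.d_eq, mapBifunctor.d_eq, Preadditive.comp_add,
    mapBifunctor.ι_D₁, mapBifunctor.ι_D₂, Preadditive.add_comp, Preadditive.comp_add,
    mapBifunctor.ι_D₁_assoc, mapBifunctor.ι_D₂_assoc]
  rw [mapBifunctor.d₁_eq K L T (ComplexShape.up ℤ) (show (ComplexShape.up ℤ).Rel p (p + 1) from rfl) q (n + 1)
      (by change p + 1 + q = n + 1; lia),
    mapBifunctor.d₂_eq K L T (ComplexShape.up ℤ) p (show (ComplexShape.up ℤ).Rel q (q + 1) from rfl) (n + 1)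
      (by change p + (q + 1) = n + 1; lia),
    mapBifunctor.d₁_eq _ _ T' (ComplexShape.up ℤ) (show (ComplexShape.up ℤ).Rel p (p + 1) from rfl) q (n + 1)
      (by change p + 1 + q = n + 1; lia),
    mapBifunctor.d₂_eq _ _ T' (ComplexShape.up ℤ) p (show (ComplexShape.up ℤ).Rel q (q + 1) from rfl) (n + 1)
      (by change p + (q + 1) = n + 1; lia)]
  rw [H.map_add, Preadditive.comp_add, Linear.units_smul_comp, Linear.units_smul_comp,
    Functor.map_units_smul, Functor.map_units_smul, Linear.comp_units_smul, Linear.comp_units_smul]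
  rw [assoc, assoc, ι_comp, ι_comp, H.map_comp, H.map_comp]
  congr 2
  · exact (c.nat₁_assoc (K.d p (p + 1)) (L.X q) _).symm
  · exact (c.nat₂_assoc (K.X p) (L.d q (q + 1)) _).symm

/-- The comparison map, as a morphism of complexes. -/
noncomputable def compHom :
    mapBifunctor ((G₁.mapHomologicalComplex (ComplexShape.up ℤ)).obj K)
      ((G₂.mapHomologicalComplex (ComplexShape.up ℤ)).obj L) T' (ComplexShape.up ℤ) ⟶
    (H.mapHomologicalComplex (ComplexShape.up ℤ)).obj (mapBifunctor K L T (ComplexShape.up ℤ)) where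
  f n := comp c K L n
  comm' n m h := comp_comm c K L n m h

variable {K L}

@[reassoc]
lemma compHom_naturality {K' : CochainComplex C₁ ℤ} {L' : CochainComplex C₂ ℤ}
    [CochainComplex.HasMapBifunctor K' L' T]
    [CochainComplex.HasMapBifunctor ((G₁.mapHomologicalComplex (ComplexShape.up ℤ)).obj K')
      ((G₂.mapHomologicalComplex (ComplexShape.up ℤ)).obj L') T'] (f : K ⟶ K') (g : L ⟶ L') :
    mapBifunctorMap ((G₁.mapHomologicalComplex (ComplexShape.up ℤ)).map f)
      ((G₂.mapHomologicalComplex (ComplexShape.up ℤ)).map g) T' (ComplexShape.up ℤ) ≫ compHom c K' L' =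
    compHom c K L ≫ (H.mapHomologicalComplex (ComplexShape.up ℤ)).map
      (mapBifunctorMap f g T (ComplexShape.up ℤ)) := by
  ext n : 1
  dsimp [compHom]
  apply mapBifunctor.hom_ext
  intro p q h
  rw [ι_comp_assoc, ι_mapBifunctorMap_assoc, ι_comp, ← H.map_comp, ι_mapBifunctorMap]
  simp only [H.map_comp, Functor.mapHomologicalComplex_map_f, Functor.mapHomologicalComplex_obj_X]
  rw [c.nat₂_assoc, c.nat₁_assoc]

end Lax

end Groth.Agent.ResProp.EF.K907
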