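import Groth.Agent.ResProp.EF.K907.Small
import Groth.Agent.ResProp.EF.K907.Lax
import Groth.Agent.PerfB.RingKFlat

/-!
# The functor `M ↦ Γ ⊗ M`, restricted along `t : R → Γ`, and its lax monoidal structure
-/

set_option autoImplicit false

universe u

open CategoryTheory CategoryTheory.Limits MonoidalCategory HomologicalComplex TensorProduct

namespace Groth.Agent.ResProp.EF.K907

open Groth.Agent.PerfB.RingKFlat

variable {R Γ : Type u} [CommRing R] [CommRing Γ] [Algebra R Γ] (t : R →+* Γ)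

/-- `F M = Γ ⊗_(s) M`, an `R`-module through `t`. -/
noncomputable def Fn : ModuleCat.{u} R ⥤ ModuleCat.{u} R := ext R Γ ⋙ ModuleCat.restrictScalars t

instance : (Fn (Γ := Γ) t).Additive := by unfold Fn; infer_instance

lemma Fn_map_apply {M N : ModuleCat.{u} R} (f : M ⟶ N) (y : Γ ⊗[R] M) :
    ((Fn (Γ := Γ) t).map f).hom y = f.hom.baseChange Γ y := rfl

/-- the product `(Γ ⊗ M) × (Γ ⊗ N) → Γ ⊗ (M ⊗ N)`. -/
noncomputable def mul₀ (M N : Type u) [AddCommGroup M] [Module R M] [AddCommGroup N] [Module R N] :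
    (Γ ⊗[R] M) →ₗ[Γ] (Γ ⊗[R] N) →ₗ[Γ] (Γ ⊗[R] (M ⊗[R] N)) :=
  (TensorProduct.mk Γ (Γ ⊗[R] M) (Γ ⊗[R] N)).compr₂
    (TensorProduct.AlgebraTensorModule.distribBaseChange R Γ M N).symm.toLinearMap

@[simp]
lemma mul₀_tmul (M N : Type u) [AddCommGroup M] [Module R M] [AddCommGroup N] [Module R N] (a b : Γ) (m : M) (n : N) :
    mul₀ (Γ := Γ) M N (a ⊗ₜ[R] m) (b ⊗ₜ[R] n) = (a * b) ⊗ₜ[R] (m ⊗ₜ[R] n) := by
  simp only [mul₀, LinearMap.compr₂_apply, TensorProduct.mk_apply, LinearEquiv.coe_coe]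
  exact TensorProduct.AlgebraTensorModule.distribBaseChange_symm_tmul (R := R) (A := Γ) (N := M) (Q := N) (n := m) (q := n) a b

variable {M M' N N' : Type u} [AddCommGroup M] [Module R M] [AddCommGroup N] [Module R N]
  [AddCommGroup M'] [Module R M'] [AddCommGroup N'] [Module R N']

lemma mul₀_map₁ (f : M →ₗ[R] M') (y : Γ ⊗[R] M) (z : Γ ⊗[R] N) :
    mul₀ (Γ := Γ) M' N (f.baseChange Γ y) z = (f.rTensor N).baseChange Γ (mul₀ M N y z) := by
  induction y using TensorProduct.induction_on with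
  | zero => simp
  | add y y' hy hy' => simp only [map_add, LinearMap.add_apply, hy, hy']
  | tmul a m =>
    induction z using TensorProduct.induction_on with
    | zero => simp
    | add z z' hz hz' => simp only [map_add, hz, hz']
    | tmul b n => simp

lemma mul₀_map₂ (g : N →ₗ[R] N') (y : Γ ⊗[R] M) (z : Γ ⊗[R] N) :
    mul₀ (Γ := Γ) M N' y (g.baseChange Γ z) = (g.lTensor M).baseChange Γ (mul₀ M N y z) := by
  induction y using TensorProduct.induction_on with
  | zero => simp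
  | add y y' hy hy' => simp only [map_add, LinearMap.add_apply, hy, hy']
  | tmul a m =>
    induction z using TensorProduct.induction_on with
    | zero => simp
    | add z z' hz hz' => simp only [map_add, hz, hz']
    | tmul b n => simp

/-- the lax structure `F M ⊗ F N ⟶ F (M ⊗ N)`. -/
noncomputable def μ (M N : ModuleCat.{u} R) :
    (Fn (Γ := Γ) t).obj M ⊗ (Fn (Γ := Γ) t).obj N ⟶ (Fn (Γ := Γ) t).obj (M ⊗ N) :=
  ModuleCat.MonoidalCategory.tensorLift
    (M₁ := (Fn (Γ := Γ) t).obj M) (M₂ := (Fn (Γ := Γ) t).obj N) (M₃ := (Fn (Γ := Γ) t).obj (M ⊗ N))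
    (fun y z => mul₀ (Γ := Γ) M N y z)
    (fun y y' z => LinearMap.congr_fun (map_add (mul₀ (Γ := Γ) M N) (show Γ ⊗[R] M from y) (show Γ ⊗[R] M from y')) z)
    (fun r y z => LinearMap.congr_fun ((mul₀ (Γ := Γ) M N).map_smul (t r) (show Γ ⊗[R] M from y)) z)
    (fun y z z' => map_add (mul₀ (Γ := Γ) M N (show Γ ⊗[R] M from y)) (show Γ ⊗[R] N from z) (show Γ ⊗[R] N from z'))
    (fun r y z => (mul₀ (Γ := Γ) M N (show Γ ⊗[R] M from y)).map_smul (t r) (show Γ ⊗[R] N from z))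

lemma μ_tmul (M N : ModuleCat.{u} R) (y : Γ ⊗[R] M) (z : Γ ⊗[R] N) :
    (μ t M N).hom ((show (Fn (Γ := Γ) t).obj M from y) ⊗ₜ[R] (show (Fn (Γ := Γ) t).obj N from z)) =
      mul₀ (Γ := Γ) M N y z := rfl

/-- the lax structure of `F` on the tensor bifunctor. -/
noncomputable def laxF : Lax (TR R) (TR R) (Fn (Γ := Γ) t) (Fn (Γ := Γ) t) (Fn (Γ := Γ) t) where
  e M N := μ t M N
  nat₁ {M M'} f N := by
    refine ModuleCat.MonoidalCategory.tensor_ext (fun y z => ?_)
    exact mul₀_map₁ (Γ := Γ) f.hom y z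
  nat₂ M {N N'} g := by
    refine ModuleCat.MonoidalCategory.tensor_ext (fun y z => ?_)
    exact mul₀_map₂ (Γ := Γ) g.hom y z

end Groth.Agent.ResProp.EF.K907
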