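import Groth.Agent.ResProp.EF.K777.SmlTens
import Groth.Agent.PerfB.BifCompare

/-!
# The coaction on the cohomology of a complex of comodules and of a tensor product (S16912, F5, (c4))

`U : C ⥤ Mod R` exact with a coaction `r : U ⟶ U ⋙ Fn t`.  `rhoC T : U T ⟶ Fn (U T)` the coaction of a complex;
`rhoH_us` : the coaction on `H^j (U T)` is the coaction of the object `H^j T`; `coT_iso` : the coaction `coT` of
`U Y ⊗ U K` is the coaction of the complex `Y ⊗ K`; `rhoH_tens` : both together.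
-/

set_option autoImplicit false
set_option backward.defeqAttrib.useBackward true
set_option backward.isDefEq.respectTransparency false

universe w v u

open CategoryTheory CategoryTheory.Limits MonoidalCategory HomologicalComplex TensorProduct

noncomputable section

namespace Groth.Agent.ResProp.EF.K907

open Groth.Agent.PerfB.RingKFlat Groth.Agent.PerfB Groth.Agent.ResProp.EF.K777

local notation "upZ" => ComplexShape.up ℤ

variable {R Γ : Type u} [CommRing R] [CommRing Γ] [Algebra R Γ] (t : R →+* Γ)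
variable {C : Type v} [Category.{w} C] [Abelian C] (U : C ⥤ ModuleCat.{u} R) [U.Additive]
  (r : U ⟶ U ⋙ Fn (Γ := Γ) t)

/-- the coaction of a complex -/
def rhoC (T : CochainComplex C ℤ) : (U.mapHomologicalComplex upZ).obj T ⟶
    ((Fn (Γ := Γ) t).mapHomologicalComplex upZ).obj ((U.mapHomologicalComplex upZ).obj T) where
  f n := r.app (T.X n)
  comm' i j _ := (r.naturality (T.d i j)).symm

lemma rhoC_f (T : CochainComplex C ℤ) (n : ℤ) : (rhoC t U r T).f n = r.app (T.X n) := rfl

lemma rhoC_nat {T T' : CochainComplex C ℤ} (f : T ⟶ T') :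
    rhoC t U r T ≫ ((Fn (Γ := Γ) t).mapHomologicalComplex upZ).map ((U.mapHomologicalComplex upZ).map f) =
      (U.mapHomologicalComplex upZ).map f ≫ rhoC t U r T' := by
  ext n : 1
  exact (r.naturality (f.f n)).symm

section Hom

variable [U.PreservesHomology] [Module.Flat R Γ]

/-- `H^j (U T) ≅ U (H^j T)` -/
def hU (T : CochainComplex C ℤ) (j : ℤ) : ((U.mapHomologicalComplex upZ).obj T).homology j ≅ U.obj (T.homology j) :=
  (T.sc j).mapHomologyIso U

/-- `Z^j (U T) ≅ U (Z^j T)` -/
def zU (T : CochainComplex C ℤ) (j : ℤ) : ((U.mapHomologicalComplex upZ).obj T).cycles j ≅ U.obj (T.cycles j) :=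
  (T.sc j).mapCyclesIso U

lemma zU_i (T : CochainComplex C ℤ) (j : ℤ) :
    (zU U T j).hom ≫ U.map (T.iCycles j) = ((U.mapHomologicalComplex upZ).obj T).iCycles j :=
  ShortComplex.mapCyclesIso_hom_iCycles (T.sc j) U

lemma π_hU (T : CochainComplex C ℤ) (j : ℤ) :
    ((U.mapHomologicalComplex upZ).obj T).homologyπ j ≫ (hU U T j).hom = (zU U T j).hom ≫ U.map (T.homologyπ j) :=
  homologyπ_mapHomologyIso (T.sc j) U

lemma hU_nat {T T' : CochainComplex C ℤ} (f : T ⟶ T') (j : ℤ) :
    homologyMap ((U.mapHomologicalComplex upZ).map f) j ≫ (hU U T' j).hom = (hU U T j).hom ≫ U.map (homologyMap f j) :=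
  ShortComplex.mapHomologyIso_hom_naturality ((shortComplexFunctor _ upZ j).map f) U

lemma rhoZ_zU (T : CochainComplex C ℤ) (j : ℤ) :
    rhoZ t ((U.mapHomologicalComplex upZ).obj T) (rhoC t U r T) j ≫ (Fn (Γ := Γ) t).map (zU U T j).hom =
      (zU U T j).hom ≫ r.app (T.cycles j) := by
  haveI : Mono (U.map (T.iCycles j)) := inferInstance
  haveI : Mono ((Fn (Γ := Γ) t).map (U.map (T.iCycles j))) := inferInstance
  rw [← cancel_mono ((Fn (Γ := Γ) t).map (U.map (T.iCycles j))), Category.assoc, Category.assoc,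
    ← (Fn (Γ := Γ) t).map_comp, zU_i, rhoZ_iCycles]
  have h := r.naturality (T.iCycles j)
  rw [Functor.comp_map] at h
  rw [← h, ← Category.assoc, zU_i]
  rfl

/-- **the coaction on the cohomology of `U T` is the coaction of the cohomology object** -/
theorem rhoH_us (T : CochainComplex C ℤ) (j : ℤ) :
    rhoH t ((U.mapHomologicalComplex upZ).obj T) (rhoC t U r T) j ≫ (Fn (Γ := Γ) t).map (hU U T j).hom =
      (hU U T j).hom ≫ r.app (T.homology j) := by
  rw [← cancel_epi (((U.mapHomologicalComplex upZ).obj T).homologyπ j)]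
  have h := r.naturality (T.homologyπ j)
  rw [Functor.comp_map] at h
  rw [← Category.assoc, homologyπ_rhoH, Category.assoc, ← (Fn (Γ := Γ) t).map_comp, π_hU, (Fn (Γ := Γ) t).map_comp,
    ← Category.assoc, rhoZ_zU, Category.assoc, ← h, ← Category.assoc, ← Category.assoc, π_hU]

end Hom

section Tens

variable (TC : C ⥤ C ⥤ C) [TC.Additive] [∀ M, (TC.obj M).Additive]
  [∀ K L : CochainComplex C ℤ, CochainComplex.HasMapBifunctor K L TC] [PreservesColimitsOfSize.{0, 0} U]
  (c : BifCompare.Data TC (TR R) U U U)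

/-- the coaction is multiplicative -/
def IsMul : Prop := ∀ M N : C, (r.app M ⊗ₘ r.app N) ≫ μ t (U.obj M) (U.obj N) ≫ (Fn (Γ := Γ) t).map (c.e M N).inv =
  (c.e M N).inv ≫ r.app ((TC.obj M).obj N)

variable {TC c r}

omit [∀ K L : CochainComplex C ℤ, CochainComplex.HasMapBifunctor K L TC] [PreservesColimitsOfSize.{0, 0} U]
  [TC.Additive] [∀ M, (TC.obj M).Additive] [U.Additive] in
lemma isMul' (h : IsMul t U r TC c) (M N : C) :
    ((TR R).map (r.app M)).app (U.obj N) ≫ ((TR R).obj _).map (r.app N) ≫ μ t (U.obj M) (U.obj N) ≫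
      (Fn (Γ := Γ) t).map (c.e M N).inv = (c.e M N).inv ≫ r.app ((TC.obj M).obj N) := by
  rw [← h M N, MonoidalCategory.tensorHom_def, Category.assoc]
  rfl

/-- the coaction of `U Y ⊗ U K` -/
abbrev coTU (Y K : CochainComplex C ℤ) := coT t ((U.mapHomologicalComplex upZ).obj Y)
  ((U.mapHomologicalComplex upZ).obj K) (rhoC t U r Y) (rhoC t U r K)

theorem coT_iso (h : IsMul t U r TC c) (Y K : CochainComplex C ℤ) :
    coT t ((U.mapHomologicalComplex upZ).obj Y) ((U.mapHomologicalComplex upZ).obj K) (rhoC t U r Y) (rhoC t U r K) ≫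
      ((Fn (Γ := Γ) t).mapHomologicalComplex upZ).map (BifCompare.iso c Y K).hom =
    (BifCompare.iso c Y K).hom ≫ rhoC t U r ((TC.map₂CochainComplex.obj Y).obj K) := by
  ext n : 1
  apply mapBifunctor.hom_ext
  intro p q hpq
  have h1 : ιMapBifunctor ((U.mapHomologicalComplex upZ).obj Y) ((U.mapHomologicalComplex upZ).obj K) (TR R) upZ
      p q n hpq ≫ (coT t ((U.mapHomologicalComplex upZ).obj Y) ((U.mapHomologicalComplex upZ).obj K)
        (rhoC t U r Y) (rhoC t U r K)).f n =
      ((TR R).map (r.app (Y.X p))).app (U.obj (K.X q)) ≫ ((TR R).obj _).map (r.app (K.X q)) ≫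
        μ t (U.obj (Y.X p)) (U.obj (K.X q)) ≫
        (Fn (Γ := Γ) t).map (ιMapBifunctor ((U.mapHomologicalComplex upZ).obj Y)
          ((U.mapHomologicalComplex upZ).obj K) (TR R) upZ p q n hpq) := by
    change ιMapBifunctor _ _ (TR R) upZ p q n hpq ≫ (mapBifunctorMap _ _ (TR R) upZ).f n ≫
      Lax.comp (laxF t) _ _ n = _
    rw [ι_mapBifunctorMap_assoc]
    congr 2
    exact Lax.ι_comp (laxF t) _ _ p q n hpq
  have h2 := BifCompare.ι_comp c Y K p q n hpq
  have h3 := isMul' t U h (Y.X p) (K.X q)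
  have h4 := r.naturality (ιMapBifunctor Y K TC upZ p q n hpq)
  rw [Functor.comp_map] at h4
  rw [comp_f, comp_f, ← Category.assoc, h1]
  change (((TR R).map (r.app (Y.X p))).app (U.obj (K.X q)) ≫ ((TR R).obj _).map (r.app (K.X q)) ≫
        μ t (U.obj (Y.X p)) (U.obj (K.X q)) ≫
        (Fn (Γ := Γ) t).map (ιMapBifunctor ((U.mapHomologicalComplex upZ).obj Y)
          ((U.mapHomologicalComplex upZ).obj K) (TR R) upZ p q n hpq)) ≫
      (Fn (Γ := Γ) t).map (BifCompare.comp c Y K n) =
    ιMapBifunctor ((U.mapHomologicalComplex upZ).obj Y)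
      ((U.mapHomologicalComplex upZ).obj K) (TR R) upZ p q n hpq ≫ BifCompare.comp c Y K n ≫ r.app _
  rw [Category.assoc, Category.assoc, Category.assoc, ← (Fn (Γ := Γ) t).map_comp, h2, (Fn (Γ := Γ) t).map_comp]
  rw [← Category.assoc (ιMapBifunctor _ _ (TR R) upZ p q n hpq), h2, Category.assoc, h4, ← Category.assoc (c.e _ _).inv,
    ← h3]
  simp only [Category.assoc]

variable [U.PreservesHomology] [Module.Flat R Γ]

/-- `H^j(U Y ⊗ U K) ≅ U (H^j (Y ⊗ K))` -/
def tU (c : BifCompare.Data TC (TR R) U U U) (Y K : CochainComplex C ℤ) (j : ℤ) :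
    (mapBifunctor ((U.mapHomologicalComplex upZ).obj Y) ((U.mapHomologicalComplex upZ).obj K) (TR R) upZ).homology j ≅
      U.obj (((TC.map₂CochainComplex.obj Y).obj K).homology j) :=
  (homologyFunctor _ upZ j).mapIso (BifCompare.iso c Y K) ≪≫ hU U ((TC.map₂CochainComplex.obj Y).obj K) j

/-- **the coaction on `H^j(U Y ⊗ U K)` is the coaction of the object `H^j(Y ⊗ K)`** -/
theorem rhoH_tens (h : IsMul t U r TC c) (Y K : CochainComplex C ℤ) (j : ℤ) :
    rhoH t _ (coT t ((U.mapHomologicalComplex upZ).obj Y) ((U.mapHomologicalComplex upZ).obj K)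
      (rhoC t U r Y) (rhoC t U r K)) j ≫ (Fn (Γ := Γ) t).map (tU U c Y K j).hom =
      (tU U c Y K j).hom ≫ r.app (((TC.map₂CochainComplex.obj Y).obj K).homology j) := by
  have h1 := rhoH_nat t _ (rhoC t U r ((TC.map₂CochainComplex.obj Y).obj K)) j (BifCompare.iso c Y K).hom
    (coT_iso t U h Y K)
  have h2 := rhoH_us t U r ((TC.map₂CochainComplex.obj Y).obj K) j
  rw [tU, Iso.trans_hom, (Fn (Γ := Γ) t).map_comp, ← Category.assoc]
  change (rhoH t _ _ j ≫ (Fn (Γ := Γ) t).map (homologyMap (BifCompare.iso c Y K).hom j)) ≫ _ =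
    (homologyMap (BifCompare.iso c Y K).hom j ≫ _) ≫ _
  rw [h1, Category.assoc, h2, Category.assoc]

end Tens

end Groth.Agent.ResProp.EF.K907
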