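import Mathlib.LinearAlgebra.TensorProduct.Tower
import Mathlib.RingTheory.Flat.Basic
import Mathlib.RingTheory.Flat.Equalizer
import Mathlib.RingTheory.TensorProduct.Basic

/-!
# Small objects (finite chains of stable submodules with `D`-semilinear pieces)

`R → Γ` flat, `P` a set of operators (the ring `P_S`), `I = ker (P → D)`, `e p = ∑ γ ⊗ p'` a lift of the coaction of the
image of `p` in `D`. An object is an `R`-module `M` with operators `act p`, `p ∈ P`, and an additive map `ρ : M → Γ ⊗ M`
(no compatibility, no coassociativity). `Sml` : a finite chain of submodules, stable under `act` and `ρ`, such that on the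
pieces `I` acts by zero and `ρ (p x) = e p • ρ x`. Stable under injective and surjective morphisms
(so under subquotients, cohomology).
-/

set_option autoImplicit false

open TensorProduct

namespace Groth.Agent.ResProp.EF.K907

section Ext

variable {R : Type*} [CommRing R] (Γ : Type*) [CommRing Γ] [Algebra R Γ]
variable {M N : Type*} [AddCommGroup M] [Module R M] [AddCommGroup N] [Module R N]

lemma baseChange_mem_map (f : M →ₗ[R] N) (S : Submodule R M) {y : Γ ⊗[R] M} (hy : y ∈ S.baseChange Γ) :
    f.baseChange Γ y ∈ (S.map f).baseChange Γ := by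
  rw [Submodule.baseChange_eq_span] at hy
  refine Submodule.span_induction (p := fun y _ => f.baseChange Γ y ∈ (S.map f).baseChange Γ) ?_ ?_ ?_ ?_ hy
  · rintro _ ⟨x, hx, rfl⟩
    simp only [TensorProduct.mk_apply, LinearMap.baseChange_tmul]
    exact Submodule.tmul_mem_baseChange_of_mem _ (Submodule.mem_map_of_mem hx)
  · simp
  · intro x y _ _ hx hy
    rw [map_add]
    exact add_mem hx hy
  · intro a x _ hx
    rw [map_smul]
    exact Submodule.smul_mem _ _ hx

/-- for flat `Γ` : `Γ ⊗ ker f = ker (Γ ⊗ f)`. -/
lemma mem_baseChange_ker [Module.Flat R Γ] (f : M →ₗ[R] N) (y : Γ ⊗[R] M) :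
    y ∈ (LinearMap.ker f).baseChange Γ ↔ f.baseChange Γ y = 0 := by
  constructor
  · intro hy
    have h := baseChange_mem_map Γ f _ hy
    have h0 : (LinearMap.ker f).map f = ⊥ := by
      rw [eq_bot_iff]
      rintro _ ⟨x, hx, rfl⟩
      simpa using hx
    rw [h0, Submodule.baseChange_bot] at h
    simpa using h
  · intro hy
    have hex : Function.Exact ((LinearMap.ker f).subtype.lTensor Γ) (f.lTensor Γ) :=
      Module.Flat.lTensor_exact Γ (LinearMap.exact_subtype_ker_map f)
    have hy' : f.lTensor Γ y = 0 := by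
      rw [← LinearMap.baseChange_eq_ltensor (A := Γ)]
      exact hy
    obtain ⟨z, rfl⟩ := (hex y).1 hy'
    induction z using TensorProduct.induction_on with
    | zero => simp
    | tmul a x =>
      rw [LinearMap.lTensor_tmul]
      exact Submodule.tmul_mem_baseChange_of_mem _ x.2
    | add z w hz hw =>
      rw [map_add]
      have h1 : ∀ z : Γ ⊗[R] (LinearMap.ker f), (LinearMap.ker f).subtype.lTensor Γ z ∈
          (LinearMap.ker f).baseChange Γ := by
        intro z
        induction z using TensorProduct.induction_on with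
        | zero => simp
        | tmul a x =>
          rw [LinearMap.lTensor_tmul]
          exact Submodule.tmul_mem_baseChange_of_mem _ x.2
        | add z w hz hw =>
          rw [map_add]
          exact add_mem hz hw
      exact add_mem (h1 z) (h1 w)

lemma mem_baseChange_comap [Module.Flat R Γ] (f : M →ₗ[R] N) (S : Submodule R N) (y : Γ ⊗[R] M) :
    y ∈ (S.comap f).baseChange Γ ↔ f.baseChange Γ y ∈ S.baseChange Γ := by
  have h1 : S.comap f = LinearMap.ker (S.mkQ ∘ₗ f) := by
    rw [LinearMap.ker_comp, Submodule.ker_mkQ]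
  have h2 : S.baseChange Γ = (LinearMap.ker S.mkQ).baseChange Γ := by rw [Submodule.ker_mkQ]
  rw [h1, mem_baseChange_ker, h2, mem_baseChange_ker, LinearMap.baseChange_comp]
  rfl

end Ext

section Act

variable {R : Type*} [CommRing R] {Γ : Type*} [CommRing Γ] [Algebra R Γ] {P : Type*}
variable {M N : Type*} [AddCommGroup M] [Module R M] [AddCommGroup N] [Module R N]

/-- the action of a formal sum `∑ γ ⊗ p` on `Γ ⊗ M`. -/
noncomputable def actL (act : P → Module.End R M) (l : List (Γ × P)) (y : Γ ⊗[R] M) : Γ ⊗[R] M :=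
  (l.map (fun x => x.1 • (act x.2).baseChange Γ y)).sum

@[simp]
lemma actL_nil (act : P → Module.End R M) (y : Γ ⊗[R] M) : actL act [] y = 0 := rfl

@[simp]
lemma actL_cons (act : P → Module.End R M) (x : Γ × P) (l : List (Γ × P)) (y : Γ ⊗[R] M) :
    actL act (x :: l) y = x.1 • (act x.2).baseChange Γ y + actL act l y := rfl

lemma actL_zero (act : P → Module.End R M) (l : List (Γ × P)) : actL act l (0 : Γ ⊗[R] M) = 0 := by
  induction l with
  | nil => rfl
  | cons x l ih => rw [actL_cons, ih, map_zero, smul_zero, add_zero]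

lemma actL_add (act : P → Module.End R M) (l : List (Γ × P)) (y z : Γ ⊗[R] M) :
    actL act l (y + z) = actL act l y + actL act l z := by
  induction l with
  | nil => simp
  | cons x l ih =>
    rw [actL_cons, actL_cons, actL_cons, ih, map_add, smul_add]
    abel

lemma actL_comm (act : P → Module.End R M) (act' : P → Module.End R N) (f : M →ₗ[R] N)
    (h : ∀ p x, f (act p x) = act' p (f x)) (l : List (Γ × P)) (y : Γ ⊗[R] M) :
    f.baseChange Γ (actL act l y) = actL act' l (f.baseChange Γ y) := by
  induction l with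
  | nil => simp
  | cons x l ih =>
    rw [actL_cons, actL_cons, map_add, ih, map_smul]
    congr 2
    have h1 : f ∘ₗ act x.2 = act' x.2 ∘ₗ f := LinearMap.ext (h x.2)
    have h2 := congrArg (LinearMap.baseChange Γ) h1
    rw [LinearMap.baseChange_comp, LinearMap.baseChange_comp] at h2
    exact LinearMap.congr_fun h2 y

end Act

section Sml

variable {R : Type*} [CommRing R] {Γ : Type*} [CommRing Γ] [Algebra R Γ]
  {P : Type*} (I : Set P) (e : P → List (Γ × P))
variable {M N : Type*} [AddCommGroup M] [Module R M] [AddCommGroup N] [Module R N]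

/-- a finite chain of submodules, stable under `act` and `ρ`, with pieces on which `I` acts by zero and `ρ` is
`e`-semilinear. -/
structure Sml (act : P → Module.End R M) (ρ : M →+ Γ ⊗[R] M) (n : ℕ) (S : ℕ → Submodule R M) : Prop where
  bot : S 0 = ⊥
  top : S n = ⊤
  mono : Monotone S
  act_mem : ∀ i p x, x ∈ S i → act p x ∈ S i
  ρ_mem : ∀ i x, x ∈ S i → ρ x ∈ (S i).baseChange Γ
  ker_mem : ∀ i p x, p ∈ I → x ∈ S (i + 1) → act p x ∈ S i
  semi : ∀ i p x, x ∈ S (i + 1) → ρ (act p x) - actL act (e p) (ρ x) ∈ (S i).baseChange Γ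

variable {I e}

/-- a subobject of a small object is small. -/
theorem Sml.comap [Module.Flat R Γ] {act : P → Module.End R M} {ρ : M →+ Γ ⊗[R] M}
    {act' : P → Module.End R N} {ρ' : N →+ Γ ⊗[R] N} {n : ℕ} {S : ℕ → Submodule R N}
    (h : Sml I e act' ρ' n S) (f : M →ₗ[R] N) (hf : Function.Injective f)
    (hact : ∀ p x, f (act p x) = act' p (f x)) (hρ : ∀ x, f.baseChange Γ (ρ x) = ρ' (f x)) :
    Sml I e act ρ n (fun i => (S i).comap f) where
  bot := by
    rw [h.bot]
    exact (LinearMap.ker_eq_bot (f := f)).2 hf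
  top := by rw [h.top]; rfl
  mono := fun i j hij => Submodule.comap_mono (h.mono hij)
  act_mem := fun i p x hx => by
    rw [Submodule.mem_comap, hact]
    exact h.act_mem i p _ hx
  ρ_mem := fun i x hx => by
    rw [mem_baseChange_comap, hρ]
    exact h.ρ_mem i _ hx
  ker_mem := fun i p x hp hx => by
    rw [Submodule.mem_comap, hact]
    exact h.ker_mem i p _ hp hx
  semi := fun i p x hx => by
    rw [mem_baseChange_comap, map_sub, hρ, hact, actL_comm act act' f hact, hρ]
    exact h.semi i p _ hx

/-- a quotient of a small object is small. -/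
theorem Sml.map {act : P → Module.End R M} {ρ : M →+ Γ ⊗[R] M}
    {act' : P → Module.End R N} {ρ' : N →+ Γ ⊗[R] N} {n : ℕ} {S : ℕ → Submodule R M}
    (h : Sml I e act ρ n S) (f : M →ₗ[R] N) (hf : Function.Surjective f)
    (hact : ∀ p x, f (act p x) = act' p (f x)) (hρ : ∀ x, f.baseChange Γ (ρ x) = ρ' (f x)) :
    Sml I e act' ρ' n (fun i => (S i).map f) where
  bot := by rw [h.bot, Submodule.map_bot]
  top := by rw [h.top, Submodule.map_top, LinearMap.range_eq_top.2 hf]
  mono := fun i j hij => Submodule.map_mono (h.mono hij)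
  act_mem := fun i p x hx => by
    obtain ⟨y, hy, rfl⟩ := hx
    rw [← hact]
    exact Submodule.mem_map_of_mem (h.act_mem i p _ hy)
  ρ_mem := fun i x hx => by
    obtain ⟨y, hy, rfl⟩ := hx
    rw [← hρ]
    exact baseChange_mem_map Γ f _ (h.ρ_mem i _ hy)
  ker_mem := fun i p x hp hx => by
    obtain ⟨y, hy, rfl⟩ := hx
    rw [← hact]
    exact Submodule.mem_map_of_mem (h.ker_mem i p _ hp hy)
  semi := fun i p x hx => by
    obtain ⟨y, hy, rfl⟩ := hx
    rw [← hact, ← hρ, ← hρ, ← actL_comm act act' f hact, ← map_sub]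
    exact baseChange_mem_map Γ f _ (h.semi i p _ hy)

end Sml

end Groth.Agent.ResProp.EF.K907
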