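import Groth.Agent.ResProp.EF.K868.RoofHit
import Groth.Agent.ResProp.EF.K777.SmlIn
import Groth.Agent.ResProp.EF.K777.SmlOut
import Groth.Agent.ResProp.EF.K735.KerSm
import Groth.Agent.ResProp.EF.X56.ActC
import Groth.Agent.ResProp.EF.K907.Seam
import Groth.Agent.ResProp.EF.K907.ActB

/-!
# `StmtAct` (S16912, F5, (c4)): coaction text

The action is helper56's `EF56.Act.act`; smallness for bounded `Y`: `sml_aV` (a projective resolution of `us Y` with a strict
lift of the coaction), the seam `rhoH_tens`, and helper777's `gfil_of_sml`.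
-/

set_option autoImplicit false
set_option backward.defeqAttrib.useBackward true
set_option backward.isDefEq.respectTransparency false
set_option backward.isDefEq.respectTransparency.types false
set_option linter.dupNamespace false
set_option linter.style.haveILetI false

open CategoryTheory CategoryTheory.Limits Opposite HomologicalComplex MonoidalCategory

noncomputable section

namespace Groth.Agent.ResProp.EF.K907

open K784.BC K784.PM K741.RP EF56 K294 Grp Arch K494.Seam K777 K868
open Groth.Agent.PerfB.RingKFlat Groth.Agent.Dcoh.KFlatAbs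

attribute [local instance] K911.TChart.add K911.TChart.add_obj K911.TChart.hmb algS

universe u

section

variable {A : NFᵒᵖ ⥤ CommRingCat.{u}} [hA : Fact (GR A)]

instance flatS : Module.Flat (A.obj (op ⟨0⟩)) (A.obj (op ⟨1⟩)) := flat_algS hA.out

/-- the coaction of `us` -/
def rhoF (A : NFᵒᵖ ⥤ CommRingCat.{u}) [hA : Fact (GR A)] :
    (chartF A).us ⟶ (chartF A).us ⋙ Fn (Γ := A.obj (op ⟨1⟩)) (tt A) := rho A

theorem isMulF : IsMul (tt A) (chartF A).us (rhoF A) (K110.tchartF A).TC (K110.tchartF A).data := by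
  intro M N
  have h := rho_tensor M N
  change (((rho A).app M) ⊗ₘ ((rho A).app N)) ≫ μ (tt A) ((vst A).obj M) ((vst A).obj N) ≫
    (Fn (Γ := A.obj (op ⟨1⟩)) (tt A)).map (𝟙 _) = 𝟙 _ ≫ (rho A).app (M ⊗ N)
  rw [h, CategoryTheory.Functor.map_id, Category.comp_id, Category.id_comp]

end

variable {k : Type u} [CommRing k] {A : NFᵒᵖ ⥤ CommRingCat.{u}} [GRF k A] [hA : Fact (GR A)]
  {x : PrimeSpectrum (A.obj (op ⟨0⟩))} {c : CoverDatum k A x}

theorem small_Y (KD : KernelDatum c) (r : KRoof KD)
    (D : Act.Lft ((chartF A).usC.map r.s) ((chartF A).usC.map r.t) (K735.rhoK KD.K KD.d KD.dd))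
    (hL : KFl (TR (A.obj (op ⟨0⟩))) ((chartF A).usC.obj r.D.K))
    [QuasiIso r.s] [QuasiIso r.t]
    (Y : CochainComplex (Comod A) ℤ) (hY : F5.Bdd Y) (j : ℤ) :
    K566.Sm c.Y.j (KD.π : KD.P →+* c.Y.D.obj (op ⟨0⟩))
      ((((K110.tchartF A).TC.map₂CochainComplex.obj Y).obj r.D.K).homology j)
      (fun p => Act.act (K110.tchartF A).data D hL Y p j) := by
  have hact := Act.isAct_act (K110.tchartF A).data D hL (fun n => K735.isAct_rhoK KD.K KD.d KD.dd n) Y j
  refine ⟨hact, ?_⟩
  obtain ⟨e, m, S, he, hS⟩ := exists_sml_kernel KD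
  obtain ⟨a, b, -, hb⟩ := hY
  have hb' : ((chartF A).usC.obj Y).IsStrictlyLE b := by
    rw [CochainComplex.isStrictlyLE_iff]
    exact fun i hi => (chartF A).us.map_isZero (Y.isZero_of_isStrictlyLE b i hi)
  have h1 : ∃ S' : ℕ → Submodule (A.obj (op ⟨0⟩)) _, Sml {p | KD.π p = 0} e
      (fun p => (Act.aV D hL ((chartF A).usC.obj Y) j p).hom)
      (rhoHA (tt A) _ (coT (tt A) ((chartF A).usC.obj Y) ((chartF A).usC.obj r.D.K)
        (rhoC (tt A) (chartF A).us (rhoF A) Y) (rhoC (tt A) (chartF A).us (rhoF A) r.D.K)) j) m S' :=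
    sml_aV (tt A) D hL (ρE := rhoC (tt A) (chartF A).us (rhoF A) (cmCx KD.K KD.d KD.dd))
      (ρW := rhoC (tt A) (chartF A).us (rhoF A) r.W) (ρL := rhoC (tt A) (chartF A).us (rhoF A) r.D.K)
      (rhoC_nat (tt A) (chartF A).us (rhoF A) r.s) (rhoC_nat (tt A) (chartF A).us (rhoF A) r.t) S
      (fun q => by
        have h := hS q
        have e1 : (fun p => ((K735.rhoK KD.K KD.d KD.dd p).f q).hom) = actS (KD.K q) := by
          funext p
          rw [K735.rhoK_f]
          rfl
        rw [e1]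
        exact h)
      ((chartF A).usC.obj Y) b (rhoC (tt A) (chartF A).us (rhoF A) Y) j
  obtain ⟨S', h1⟩ := h1
  have h2 := rhoH_tens (tt A) (chartF A).us (c := (K110.tchartF A).data) isMulF Y r.D.K j
  have h3 := Sml.map (act' := fun p => (Act.act (K110.tchartF A).data D hL Y p j).hom)
    (ρ' := ((rhoF A).app ((((K110.tchartF A).TC.map₂CochainComplex.obj Y).obj r.D.K).homology j)).hom.toAddMonoidHom)
    h1 (tU (chartF A).us (K110.tchartF A).data Y r.D.K j).hom.hom
    ((ModuleCat.epi_iff_surjective _).1 inferInstance)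
    (fun p z => by
      have h4 : Act.aV D hL ((chartF A).usC.obj Y) j p ≫ (tU (chartF A).us (K110.tchartF A).data Y r.D.K j).hom =
          (tU (chartF A).us (K110.tchartF A).data Y r.D.K j).hom ≫ Act.act (K110.tchartF A).data D hL Y p j := by
        change _ = (Act.eH (chartF A) (K110.tchartF A).TC (K110.tchartF A).data Y r.D.K j).hom ≫
          (Act.eH (chartF A) (K110.tchartF A).TC (K110.tchartF A).data Y r.D.K j).inv ≫ _ ≫
          (Act.eH (chartF A) (K110.tchartF A).TC (K110.tchartF A).data Y r.D.K j).hom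
        rw [Iso.hom_inv_id_assoc]
        rfl
      exact congrArg (fun f => f.hom z) h4)
    (fun z => congrArg (fun f => f.hom z) h2)
  exact (gfil_of_sml (X := K566.gobj _ _ hact) he h3).gsmall hA.out KD.π_surj

theorem actFor (KD : KernelDatum c) (r : KRoof KD) : Nonempty (ActFor KD r) := by
  haveI := r.qs
  haveI := r.qt
  haveI h1 : QuasiIso ((chartF A).usC.map r.s) := inferInstance
  haveI h2 : QuasiIso ((chartF A).usC.map r.t) := inferInstance
  haveI h3 : ((chartF A).usC.obj (cmCx KD.K KD.d KD.dd)).IsStrictlyLE 0 := by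
    have h := isStrictlyLE_cmCx KD.K KD.d KD.dd 0 (fun n hn => KD.bdd n (Or.inr hn))
    rw [CochainComplex.isStrictlyLE_iff]
    exact fun i hi => (chartF A).us.map_isZero ((cmCx KD.K KD.d KD.dd).isZero_of_isStrictlyLE 0 i hi)
  haveI h4 : ((chartF A).usC.obj r.D.K).IsStrictlyLE 0 := by
    have := r.leK
    rw [CochainComplex.isStrictlyLE_iff]
    exact fun i hi => (chartF A).us.map_isZero (r.D.K.isZero_of_isStrictlyLE 0 i hi)
  have hL : KFl (TR (A.obj (op ⟨0⟩))) ((chartF A).usC.obj r.D.K) := K894.kfl_right _ 0 (fun n => r.D.flatK n)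
  obtain ⟨D⟩ := Act.exists_lft ((chartF A).usC.map r.s) ((chartF A).usC.map r.t) (K735.rhoK KD.K KD.d KD.dd) 0
  exact ⟨{
    act := fun Y p j => Act.act (K110.tchartF A).data D hL Y p j
    small := fun Y hY j => small_Y KD r D hL Y hY j
    nat := fun _ _ f p => Act.act_nat (K110.tchartF A).data D hL f p 0 }⟩

theorem stmtAct : K868.StmtAct.{u} := fun _ _ _ _ _ _ _ _ _ KD r => actFor KD r

end Groth.Agent.ResProp.EF.K907
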